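import Groth.Agent.EtShLib.Shriek
import Groth.Agent.EtShLib.RestrPull
import Groth.Agent.CovDevLib.Base
import Groth.Agent.EtConeLib.Line
import Groth.Agent.LocAcycPointLib.Main
import Groth.Agent.SkySumLib.Cohom

/-!
# Cohomology of the extension by zero off finitely many sections with bijective restrictions
-/

set_option autoImplicit false
set_option linter.style.haveILetI false
set_option linter.unusedSectionVars false
set_option backward.isDefEq.respectTransparency false
set_option backward.isDefEq.respectTransparency.types false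
set_option synthInstance.maxHeartbeats 400000
set_option maxHeartbeats 2000000

universe u

open CategoryTheory CategoryTheory.Limits CategoryTheory.Abelian AlgebraicGeometry Opposite
open Groth.Agent Groth.Agent.EtShLib

attribute [local instance] EtSliceLib.pullExact

noncomputable section

namespace PunctLineLib

variable {X U P : Scheme.{u}} {ι : Type} [Fintype ι] [DecidableEq ι]
  (σ : ι → (P ⟶ X)) [∀ i, IsClosedImmersion (σ i)]

variable (F : EtCoh.Ab X)

/-- The direct images of the restrictions to the sections. -/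
abbrev Sky (i : ι) : EtCoh.Ab X := (EtCoh.push (σ i)).obj ((EtCoh.pull (σ i)).obj F)

/-- The map to the direct images of the restrictions to the sections. -/
abbrev toSky : F ⟶ ⨁ fun i => Sky σ F i :=
  biproduct.lift fun i => (EtCoh.pullPushAdj (σ i)).unit.app F

theorem isIso_stk_unit (i : ι) {Ω : Type u} [Field Ω] [IsSepClosed Ω] (ξ : Spec (CommRingCat.of Ω) ⟶ X)
    (h : ξ.base default ∈ Set.range (σ i).base) :
    IsIso ((stk (A := AddCommGrpCat.{u + 1}) ξ).map ((EtCoh.pullPushAdj (σ i)).unit.app F)) := by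
  obtain ⟨ζ, rfl⟩ := exists_factor (σ i) ξ h
  haveI := isIso_compare (A := AddCommGrpCat.{u + 1}) (σ i) ζ (refines_of_closedImmersion (σ i) ζ)
    ((EtCoh.pull (σ i)).obj F)
  have e : (stk (ζ ≫ σ i)).map ((EtCoh.pullPushAdj (σ i)).unit.app F) ≫ compare (σ i) ζ ((EtCoh.pull (σ i)).obj F) =
      (stalkPull (σ i) ζ AddCommGrpCat.{u + 1}).hom.app F := by
    apply stk_hom_ext
    intro V v
    rw [← Category.assoc, germ_natural, Category.assoc]
    exact (congrArg (_ ≫ ·) (germ_compare (σ i) ζ _ V v)).trans (germ_stalkPull (σ i) ζ _ F V v).symm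
  haveI : IsIso ((stk (ζ ≫ σ i)).map ((EtCoh.pullPushAdj (σ i)).unit.app F) ≫
      compare (σ i) ζ ((EtCoh.pull (σ i)).obj F)) := by rw [e]; infer_instance
  exact IsIso.of_isIso_comp_right _ (compare (σ i) ζ ((EtCoh.pull (σ i)).obj F))

theorem isZero_stk_sky (i : ι) {Ω : Type u} [Field Ω] [IsSepClosed Ω] (ξ : Spec (CommRingCat.of Ω) ⟶ X)
    (h : ξ.base default ∉ Set.range (σ i).base) :
    IsZero ((stk (A := AddCommGrpCat.{u + 1}) ξ).obj (Sky σ F i)) := by
  haveI := subsingleton_push_stalk (σ i) ((EtCoh.pull (σ i)).obj F) ξ h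
  exact AddCommGrpCat.isZero_of_subsingleton _

theorem isIso_stk_π (hd : ∀ i l, i ≠ l → Disjoint (Set.range (σ i).base) (Set.range (σ l).base))
    (i : ι) {Ω : Type u} [Field Ω] [IsSepClosed Ω] (ξ : Spec (CommRingCat.of Ω) ⟶ X)
    (h : ξ.base default ∈ Set.range (σ i).base) :
    IsIso ((stk (A := AddCommGrpCat.{u + 1}) ξ).map (biproduct.π (fun l => Sky σ F l) i)) := by
  let S := stk (A := AddCommGrpCat.{u + 1}) ξ
  refine ⟨S.map (biproduct.ι (fun l => Sky σ F l) i), ?_, ?_⟩
  · have h1 : ∀ y : ι, y ≠ i →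
        S.map (biproduct.π (fun l => Sky σ F l) y ≫ biproduct.ι (fun l => Sky σ F l) y) = 0 := fun y hy => by
      have h0 := isZero_stk_sky σ F y ξ fun hm => Set.disjoint_left.1 (hd y i hy) hm h
      rw [Functor.map_comp, h0.eq_of_tgt (S.map _) 0, zero_comp]
    have h2 := congrArg (fun t => S.map t) (IsBilimit.total (biproduct.isBilimit fun l => Sky σ F l))
    simp only [Functor.map_sum, CategoryTheory.Functor.map_id] at h2
    rw [Finset.sum_eq_single i (fun y _ hy => h1 y hy) (fun hi => absurd (Finset.mem_univ _) hi),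
      Functor.map_comp] at h2
    exact h2
  · rw [← Functor.map_comp, biproduct.ι_π_self, CategoryTheory.Functor.map_id]

variable (j : U ⟶ X) [IsOpenImmersion j] [AlgebraicGeometry.Etale j] [EtShriek.JCont j]

theorem shortExact_sky (hd : ∀ i l, i ≠ l → Disjoint (Set.range (σ i).base) (Set.range (σ l).base))
    (hj : Set.range j.base = (⋃ i, Set.range (σ i).base)ᶜ) :
    ∃ w : (EtShriek.extZeroAdj j).counit.app F ≫ toSky σ F = 0, (ShortComplex.mk _ _ w).ShortExact := by
  let a := (EtShriek.extZeroAdj j).counit.app F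
  let b := toSky σ F
  have hout : ∀ {Ω : Type u} [Field Ω] [IsSepClosed Ω] (ξ : Spec (CommRingCat.of Ω) ⟶ X) (i : ι),
      ξ.base default ∈ Set.range (σ i).base → ξ.base default ∉ Set.range j.base := fun ξ i h h' => by
    rw [hj] at h'; exact h' (Set.mem_iUnion.2 ⟨i, h⟩)
  have hin : ∀ {Ω : Type u} [Field Ω] [IsSepClosed Ω] (ξ : Spec (CommRingCat.of Ω) ⟶ X),
      (∃ i, ξ.base default ∈ Set.range (σ i).base) ∨ ξ.base default ∈ Set.range j.base := fun ξ => by
    rw [hj, Set.mem_compl_iff, Set.mem_iUnion]; exact Classical.em _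
  have hb0 : ∀ {Ω : Type u} [Field Ω] [IsSepClosed Ω] (ξ : Spec (CommRingCat.of Ω) ⟶ X),
      ξ.base default ∈ Set.range j.base →
      IsZero ((stk (A := AddCommGrpCat.{u + 1}) ξ).obj (⨁ fun i => Sky σ F i)) := fun ξ h => by
    refine (IsZero.iff_id_eq_zero _).2 ?_
    have h2 := congrArg (fun t => (stk (A := AddCommGrpCat.{u + 1}) ξ).map t)
      (IsBilimit.total (biproduct.isBilimit fun l => Sky σ F l))
    simp only [Functor.map_sum, CategoryTheory.Functor.map_id] at h2
    refine h2.symm.trans (Finset.sum_eq_zero fun y _ => ?_)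
    have h0 := isZero_stk_sky σ F y ξ fun hm => hout ξ y hm h
    rw [Functor.map_comp, h0.eq_of_tgt ((stk (A := AddCommGrpCat.{u + 1}) ξ).map _) 0, zero_comp]
  have hbi : ∀ {Ω : Type u} [Field Ω] [IsSepClosed Ω] (ξ : Spec (CommRingCat.of Ω) ⟶ X),
      (∃ i, ξ.base default ∈ Set.range (σ i).base) → IsIso ((stk (A := AddCommGrpCat.{u + 1}) ξ).map b) := by
    rintro Ω _ _ ξ ⟨i, h⟩
    haveI := isIso_stk_π σ F hd i ξ h
    haveI : IsIso ((stk (A := AddCommGrpCat.{u + 1}) ξ).map b ≫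
        (stk (A := AddCommGrpCat.{u + 1}) ξ).map (biproduct.π (fun l => Sky σ F l) i)) := by
      rw [← Functor.map_comp, biproduct.lift_π]
      exact isIso_stk_unit σ F i ξ h
    exact IsIso.of_isIso_comp_right _ ((stk (A := AddCommGrpCat.{u + 1}) ξ).map (biproduct.π (fun l => Sky σ F l) i))
  have w : a ≫ b = 0 := by
    have hz : ∀ (Ω : Type u) [Field Ω] [IsSepClosed Ω] (ξ : Spec (CommRingCat.of Ω) ⟶ X),
        (stk (A := AddCommGrpCat.{u + 1}) ξ).map (a ≫ b) = 0 := fun Ω _ _ ξ => by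
      rw [Functor.map_comp]
      rcases hin ξ with ⟨i, h⟩ | h
      · exact (isZero_stalk_extZero j _ ξ (hout ξ i h)).eq_of_src _ _
      · exact (hb0 ξ h).eq_of_tgt _ _
    apply Sheaf.hom_ext
    ext V : 2
    ext s
    refine eq_of_germ _ _ _ fun Ω _ _ ξ v => ?_
    rw [← germ_natural_apply, hz Ω ξ]
    exact (map_zero (ConcreteCategory.hom (germ ξ (⨁ fun i => Sky σ F i) V.unop v))).symm
  refine ⟨w, { exact := (exact_iff_stalks (A := AddCommGrpCat.{u + 1}) _).2 fun Ω _ _ ξ => ?_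
               mono_f := (mono_iff_stalks (A := AddCommGrpCat.{u + 1}) _).2 fun Ω _ _ ξ => ?_
               epi_g := (epi_iff_stalks (A := AddCommGrpCat.{u + 1}) _).2 fun Ω _ _ ξ => ?_ }⟩
  · rcases hin ξ with h | h
    · haveI := hbi ξ h
      refine (ShortComplex.exact_iff_mono _ ?_).2 (inferInstanceAs (Mono ((stk (A := AddCommGrpCat.{u + 1}) ξ).map b)))
      exact (isZero_stalk_extZero j _ ξ (hout ξ _ h.choose_spec)).eq_of_src _ _
    · haveI := isIso_counit_stalk j F ξ h
      refine (ShortComplex.exact_iff_epi _ ?_).2 (inferInstanceAs (Epi ((stk (A := AddCommGrpCat.{u + 1}) ξ).map a)))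
      exact (hb0 ξ h).eq_of_tgt _ _
  · rcases hin ξ with ⟨i, h⟩ | h
    · exact ⟨fun g g' _ => (isZero_stalk_extZero j _ ξ (hout ξ i h)).eq_of_tgt g g'⟩
    · haveI := isIso_counit_stalk j F ξ h
      exact inferInstanceAs (Mono ((stk (A := AddCommGrpCat.{u + 1}) ξ).map a))
  · rcases hin ξ with h | h
    · haveI := hbi ξ h
      exact inferInstanceAs (Epi ((stk (A := AddCommGrpCat.{u + 1}) ξ).map b))
    · exact ⟨fun g g' _ => (hb0 ξ h).eq_of_src g g'⟩

theorem mu_unit (f : P ⟶ X) (n : ℕ) (z : EtCoh.H X F n) :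
    CovDevLib.mu (p := f) ((EtCoh.pull f).obj F) n
      (Ext.comp z (Ext.mk₀ ((EtCoh.pullPushAdj f).unit.app F)) (add_zero n)) = EtCore.Hpull f F n z := by
  show (EtCore.Hpull f _ n (Ext.comp z (Ext.mk₀ ((EtCoh.pullPushAdj f).unit.app F)) (add_zero n))).comp
    (Ext.mk₀ ((EtCoh.pullPushAdj f).counit.app ((EtCoh.pull f).obj F))) (add_zero n) = _
  rw [EtAcycLib.Hpull_postcomp, Ext.comp_assoc_of_second_deg_zero, Ext.mk₀_comp_mk₀,
    Adjunction.left_triangle_components, Ext.comp_mk₀_id]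

variable {σ F}

/-- The components of a class with coefficients in the sum of the skyscrapers. -/
theorem comp_π_bijective (n : ℕ) :
    Function.Bijective fun (w : EtCoh.H X (⨁ fun i => Sky σ F i) n) (i : ι) =>
      Ext.comp w (Ext.mk₀ (biproduct.π (fun l => Sky σ F l) i)) (add_zero n) := by
  refine Function.bijective_iff_has_inverse.2 ⟨fun v => ∑ i, Ext.comp (v i)
    (Ext.mk₀ (biproduct.ι (fun l => Sky σ F l) i)) (add_zero n), fun w => ?_, fun v => funext fun i => ?_⟩
  · have h := congrArg (fun t => Ext.comp w (Ext.mk₀ t) (add_zero n))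
      (IsBilimit.total (biproduct.isBilimit fun l => Sky σ F l))
    simp only [Ext.comp_mk₀_id, Ext.mk₀_sum, Ext.comp_sum] at h
    refine Eq.trans ?_ h
    refine Finset.sum_congr rfl fun i _ => ?_
    show Ext.comp (Ext.comp w (Ext.mk₀ (biproduct.π (fun l => Sky σ F l) i)) (add_zero n)) _ (add_zero n) = _
    rw [Ext.comp_assoc_of_second_deg_zero, Ext.mk₀_comp_mk₀]
  · show Ext.comp (∑ l, Ext.comp (v l) (Ext.mk₀ (biproduct.ι (fun l => Sky σ F l) l)) (add_zero n))
      (Ext.mk₀ (biproduct.π (fun l => Sky σ F l) i)) (add_zero n) = v i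
    rw [Ext.sum_comp, Finset.sum_eq_single i]
    · rw [Ext.comp_assoc_of_second_deg_zero, Ext.mk₀_comp_mk₀, biproduct.ι_π_self, Ext.comp_mk₀_id]
    · intro l _ hl
      rw [Ext.comp_assoc_of_second_deg_zero, Ext.mk₀_comp_mk₀, biproduct.ι_π_ne _ hl, Ext.mk₀_zero, Ext.comp_zero]
    · exact fun h => absurd (Finset.mem_univ _) h

/-- When all restrictions are bijective, cohomology of the sum of the skyscrapers is a power of that of the sheaf,
compatibly with the diagonal. -/
theorem exists_sky_equiv (n : ℕ) (hσ : ∀ i, Function.Bijective (EtCore.Hpull (σ i) F n)) :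
    ∃ e : EtCoh.H X (⨁ fun i => Sky σ F i) n ≃+ (ι → EtCoh.H X F n),
      ∀ z i, e (Ext.comp z (Ext.mk₀ (toSky σ F)) (add_zero n)) i = z := by
  have hu : ∀ i, Function.Bijective fun z : EtCoh.H X F n =>
      Ext.comp z (Ext.mk₀ ((EtCoh.pullPushAdj (σ i)).unit.app F)) (add_zero n) := fun i => by
    have hm := CovDevLib.bijective_mu (p := σ i) ((EtCoh.pull (σ i)).obj F) n
    refine (hm.of_comp_iff' _).1 ?_
    rw [show (CovDevLib.mu (p := σ i) ((EtCoh.pull (σ i)).obj F) n ∘ fun z : EtCoh.H X F n =>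
      Ext.comp z (Ext.mk₀ ((EtCoh.pullPushAdj (σ i)).unit.app F)) (add_zero n)) = EtCore.Hpull (σ i) F n from
        funext fun z => mu_unit F (σ i) n z]
    exact hσ i
  let u : ∀ i, EtCoh.H X F n ≃+ EtCoh.H X (Sky σ F i) n := fun i => AddEquiv.ofBijective
    (AddMonoidHom.mk' (fun z : EtCoh.H X F n =>
      Ext.comp z (Ext.mk₀ ((EtCoh.pullPushAdj (σ i)).unit.app F)) (add_zero n)) fun a b => Ext.add_comp _ _ _ _) (hu i)
  let c : EtCoh.H X (⨁ fun i => Sky σ F i) n ≃+ (∀ i, EtCoh.H X (Sky σ F i) n) := AddEquiv.ofBijective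
    (AddMonoidHom.mk' (fun (w : EtCoh.H X (⨁ fun i => Sky σ F i) n) (i : ι) =>
      Ext.comp w (Ext.mk₀ (biproduct.π (fun l => Sky σ F l) i)) (add_zero n))
      fun a b => funext fun i => Ext.add_comp _ _ _ _) (comp_π_bijective n)
  refine ⟨c.trans (AddEquiv.piCongrRight fun i => (u i).symm), fun z i => ?_⟩
  show (u i).symm (Ext.comp (Ext.comp z (Ext.mk₀ (toSky σ F)) (add_zero n))
    (Ext.mk₀ (biproduct.π (fun l => Sky σ F l) i)) (add_zero n)) = z
  rw [AddEquiv.symm_apply_eq, Ext.comp_assoc_of_second_deg_zero, Ext.mk₀_comp_mk₀, biproduct.lift_π]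
  rfl

end PunctLineLib

namespace PunctLineLib

variable {X U P : Scheme.{u}} {r : ℕ} (σ : Fin (r + 1) → (P ⟶ X)) [∀ i, IsClosedImmersion (σ i)]
  (j : U ⟶ X) [IsOpenImmersion j] [AlgebraicGeometry.Etale j] [EtShriek.JCont j] (F : EtCoh.Ab X)

/-- Cohomology of the extension by zero off `r + 1` sections, when all restrictions to them are bijective. -/
theorem cohomology_extZero (hd : ∀ i l, i ≠ l → Disjoint (Set.range (σ i).base) (Set.range (σ l).base))
    (hj : Set.range j.base = (⋃ i, Set.range (σ i).base)ᶜ)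
    (h0 : ∀ i n, Function.Bijective (EtCore.Hpull (σ i) F n))
    (hP : ∀ n, Subsingleton (EtCoh.H P ((EtCoh.pull (σ 0)).obj F) (n + 1))) :
    (∀ s : ℕ, s ≠ 1 → Subsingleton (EtCoh.H X ((EtShriek.extZero j).obj ((EtShriek.restrAlong j).obj F)) s)) ∧
      Nonempty (EtCoh.H X ((EtShriek.extZero j).obj ((EtShriek.restrAlong j).obj F)) 1 ≃+
        (Fin r → EtCoh.H X F 0)) := by
  classical
  obtain ⟨w, hS⟩ := shortExact_sky σ F j hd hj
  let a := (EtShriek.extZeroAdj j).counit.app F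
  have hv : ∀ n, Subsingleton (EtCoh.H X F (n + 1)) := fun n =>
    haveI := hP n
    (h0 0 (n + 1)).1.subsingleton
  choose e he using fun n => exists_sky_equiv (σ := σ) (F := F) n fun i => h0 i n
  have hb : ∀ n, Function.Injective fun z : EtCoh.H X F n => Ext.comp z (Ext.mk₀ (toSky σ F)) (add_zero n) :=
    fun n z z' h => by
      have h' := congrFun (congrArg (e n) h) 0
      rwa [he, he] at h'
  have hv' : ∀ n, Subsingleton (EtCoh.H X (⨁ fun i => Sky σ F i) (n + 1)) := fun n =>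
    haveI := hv n
    (e (n + 1)).injective.subsingleton
  refine ⟨fun s hs => subsingleton_of_forall_eq 0 fun z => ?_, ?_⟩
  · rcases s with _ | _ | m
    · haveI : Mono a := hS.mono_f
      have h1 : Ext.comp (z : EtCoh.H X _ 0) (Ext.mk₀ a) (add_zero 0) = 0 := by
        apply hb 0
        show Ext.comp (Ext.comp z (Ext.mk₀ a) (add_zero 0)) (Ext.mk₀ (toSky σ F)) (add_zero 0) =
          Ext.comp 0 (Ext.mk₀ (toSky σ F)) (add_zero 0)
        rw [Ext.comp_assoc_of_second_deg_zero, Ext.mk₀_comp_mk₀, w, Ext.mk₀_zero, Ext.comp_zero, Ext.zero_comp]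
      obtain ⟨z0, rfl⟩ := (Ext.mk₀_bijective _ _).2 z
      rw [Ext.mk₀_comp_mk₀, ← Ext.mk₀_zero] at h1
      have h2 := (Ext.mk₀_bijective _ _).1 h1
      rw [← zero_comp (f := a), cancel_mono] at h2
      rw [h2, Ext.mk₀_zero]
    · exact absurd rfl hs
    · have h1 := (hv (m + 1)).elim (Ext.comp (z : EtCoh.H X _ (m + 2)) (Ext.mk₀ a) (add_zero (m + 2))) 0
      obtain ⟨v, hv2⟩ := Ext.covariant_sequence_exact₁ _ hS z h1 (n₀ := m + 1) rfl
      rw [← hv2, (hv' m).elim v 0, Ext.zero_comp]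
  · let δ : EtCoh.H X (⨁ fun i => Sky σ F i) 0 →+ EtCoh.H X ((EtShriek.extZero j).obj ((EtShriek.restrAlong j).obj F)) 1 :=
      AddMonoidHom.mk' (fun v => Ext.comp v hS.extClass (zero_add 1)) fun v v' => Ext.add_comp _ _ _ _
    let φ : (Fin r → EtCoh.H X F 0) →+ EtCoh.H X ((EtShriek.extZero j).obj ((EtShriek.restrAlong j).obj F)) 1 :=
      δ.comp ((e 0).symm.toAddMonoidHom.comp (AddMonoidHom.mk' (fun v => Fin.cons 0 v) fun v v' => by
        funext i; refine Fin.cases ?_ (fun l => ?_) i <;> simp))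
    refine ⟨(AddEquiv.ofBijective φ ⟨(injective_iff_map_eq_zero φ).2 fun v hv2 => ?_, fun z => ?_⟩).symm⟩
    · obtain ⟨y, hy⟩ := Ext.covariant_sequence_exact₃ _ hS ((e 0).symm (Fin.cons 0 v)) rfl hv2
      have h1 := congrArg (e 0) hy
      rw [AddEquiv.apply_symm_apply] at h1
      have hy0 : y = 0 := by rw [← he 0 y 0, congrFun h1 0, Fin.cons_zero]
      funext l
      rw [← Fin.cons_succ (α := fun _ => EtCoh.H X F 0) 0 v l, ← congrFun h1 l.succ, he, hy0]
      rfl
    · obtain ⟨v, hv2⟩ := Ext.covariant_sequence_exact₁ _ hS z ((hv 0).elim _ _) (n₀ := 0) rfl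
      refine ⟨fun l => e 0 v l.succ - e 0 v 0, ?_⟩
      show Ext.comp ((e 0).symm (Fin.cons 0 fun l => e 0 v l.succ - e 0 v 0)) hS.extClass (zero_add 1) = z
      have h1 : (Fin.cons 0 fun l => e 0 v l.succ - e 0 v 0 : Fin (r + 1) → EtCoh.H X F 0) =
          e 0 v - e 0 (Ext.comp (e 0 v 0) (Ext.mk₀ (toSky σ F)) (add_zero 0)) := by
        funext i
        refine Fin.cases ?_ (fun l => ?_) i <;> simp [he]
      rw [h1, ← map_sub, AddEquiv.symm_apply_apply, sub_eq_add_neg, Ext.add_comp, Ext.neg_comp,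
        Ext.comp_assoc_of_second_deg_zero, hS.comp_extClass, Ext.comp_zero, neg_zero, add_zero]
      exact hv2

end PunctLineLib
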